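import Mathlib
import Cfsg.Agent.Leech.PairBase
import Cfsg.Agent.Golay.Weights

/-! Coordinates relative to the signs of an odd lattice vector. -/

set_option autoImplicit false

namespace CfsgLib.LeechTriples

open Cfsg CfsgLib.Leech
open scoped Pointwise

/-- The sign, `1` at zero. -/
def sg (x : ℤ) : ℤ := if x < 0 then -1 else 1

theorem sg_mul_self (x : ℤ) : x * sg x = |x| := by
  unfold sg; split_ifs with h
  · rw [abs_of_neg h]; ring
  · rw [abs_of_nonneg (not_lt.1 h)]; ring

theorem sg_sq (x : ℤ) : sg x * sg x = 1 := by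
  unfold sg; split_ifs <;> norm_num

/-- The coordinates of `y` relative to the signs of `u`. -/
def rel (u y : leechLattice) (i : GolayPt) : ℤ :=
  (y : GolayPt → ℤ) i * sg ((u : GolayPt → ℤ) i)

/-- Absolute values of the coordinates. -/
def mag (u : leechLattice) (i : GolayPt) : ℤ := |(u : GolayPt → ℤ) i|

/-- All coordinates odd. -/
def IsOdd (u : leechLattice) : Prop := ∀ i, (u : GolayPt → ℤ) i % 2 = 1

theorem IsOdd.mag_odd {u : leechLattice} (h : IsOdd u) (i : GolayPt) : mag u i % 2 = 1 := by
  have := h i
  rcases abs_choice ((u : GolayPt → ℤ) i) with e | e <;> rw [mag, e] <;> omega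

theorem rel_self (u : leechLattice) (i : GolayPt) : rel u u i = mag u i := sg_mul_self _

theorem rel_inj {u y y' : leechLattice} (h : ∀ i, rel u y i = rel u y' i) : y = y' := by
  refine Subtype.ext (funext fun i => ?_)
  have := h i
  unfold rel sg at this
  split_ifs at this <;> omega

theorem coord_eq (u y : leechLattice) (i : GolayPt) :
    (y : GolayPt → ℤ) i = rel u y i * sg ((u : GolayPt → ℤ) i) := by
  rw [rel, mul_assoc, sg_sq, mul_one]

theorem abs_rel (u y : leechLattice) (i : GolayPt) : |rel u y i| = |(y : GolayPt → ℤ) i| := by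
  unfold rel sg; split_ifs <;> simp

theorem rel_sq (u y : leechLattice) (i : GolayPt) :
    rel u y i ^ 2 = (y : GolayPt → ℤ) i ^ 2 := by
  rw [← sq_abs, abs_rel, sq_abs]

theorem ip_rel (u y : leechLattice) : ip u y = ∑ i, mag u i * rel u y i :=
  Finset.sum_congr rfl fun i _ => by
    rw [← rel_self u i, rel, rel]
    linear_combination -(u : GolayPt → ℤ) i * (y : GolayPt → ℤ) i * sg_sq ((u : GolayPt → ℤ) i)

theorem nrm_rel (u y : leechLattice) : nrm y = ∑ i, rel u y i ^ 2 :=
  Finset.sum_congr rfl fun i _ => (rel_sq u y i).symm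

theorem rel_neg (u y : leechLattice) (i : GolayPt) : rel u (-y) i = -rel u y i := by
  simp [rel]

theorem rel_add (u y z : leechLattice) (i : GolayPt) :
    rel u (y + z) i = rel u y i + rel u z i := by
  simp [rel, add_mul]

theorem rel_sub (u y z : leechLattice) (i : GolayPt) :
    rel u (y - z) i = rel u y i - rel u z i := by
  simp [rel, sub_mul]

theorem rel_fourPair (u : leechLattice) (a b : GolayPt) (s t : ℤ) (h : (2 : ℤ) ∣ s + t)
    (i : GolayPt) : rel u (fourPair a b s t h) i =
      4 * (single a (s * sg ((u : GolayPt → ℤ) a)) i +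
        single b (t * sg ((u : GolayPt → ℤ) b)) i) := by
  simp only [rel, fourPair_apply, single]
  split_ifs <;> subst_vars <;> ring

/-- The half of the difference of two vectors of the same parity is a word of the code. -/
theorem half_sub_mem {x y : leechLattice} {b : GolayPt → ℤ}
    (hb : ∀ i, (x : GolayPt → ℤ) i - (y : GolayPt → ℤ) i = 2 * b i) : red b ∈ golayCode := by
  have h : (fun i => 2 * b i) ∈ leechLattice := by
    have e : (fun i => 2 * b i) = ((x - y : leechLattice) : GolayPt → ℤ) := funext fun i => by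
      simp [← hb i]
    rw [e]
    exact (x - y).2
  exact (two_mul_mem_iff.1 h).1

/-- Signed permutations between odd vectors with corresponding magnitudes. -/
theorem exists_mono {σ : Equiv.Perm GolayPt} (hσ : σ ∈ M24) (u u' : leechLattice) (hu : IsOdd u)
    (hmag : ∀ i, mag u' (σ i) = mag u i) :
    ∃ g : Co0, g • u = u' ∧ ∀ y i, rel u' (g • y) (σ i) = rel u y i := by
  set x := permHom ⟨σ, hσ⟩ • u with hx
  have hxv : ∀ i, (x : GolayPt → ℤ) (σ i) = (u : GolayPt → ℤ) i := fun i => by
    rw [hx, permHom_apply]; simp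
  have hxu : ∀ j, (x : GolayPt → ℤ) j = (u' : GolayPt → ℤ) j ∨
      (x : GolayPt → ℤ) j = -(u' : GolayPt → ℤ) j := fun j => by
    have h := hmag (σ.symm j)
    rw [Equiv.apply_symm_apply] at h
    have e := hxv (σ.symm j)
    rw [Equiv.apply_symm_apply] at e
    rw [e]
    exact (abs_eq_abs.1 h.symm)
  have hxo : ∀ j, (x : GolayPt → ℤ) j % 2 = 1 := fun j => by
    rw [hx, permHom_apply]; exact hu _
  let b : GolayPt → ℤ := fun j => ((x : GolayPt → ℤ) j - (u' : GolayPt → ℤ) j) / 2
  have hb : ∀ j, (x : GolayPt → ℤ) j - (u' : GolayPt → ℤ) j = 2 * b j := fun j => by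
    have := hxo j
    rcases hxu j with e | e <;> simp only [b] <;> omega
  have hc := half_sub_mem hb
  have hc0 : ∀ j, red b j = 0 ↔ (x : GolayPt → ℤ) j = (u' : GolayPt → ℤ) j := fun j => by
    rw [red_apply, intCast_two_eq_zero]
    have := hxo j
    have := hb j
    rcases hxu j with e | e <;> omega
  have hg : ∀ y j, ((signs _ hc • permHom ⟨σ, hσ⟩ • y : leechLattice) : GolayPt → ℤ) j =
      (if (x : GolayPt → ℤ) j = (u' : GolayPt → ℤ) j then (y : GolayPt → ℤ) (σ.symm j)
        else -(y : GolayPt → ℤ) (σ.symm j)) := fun y j => by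
    rw [signs_apply, permHom_apply]
    simp only [hc0 j]
  refine ⟨signs _ hc * permHom ⟨σ, hσ⟩, ?_, fun y i => ?_⟩
  · refine Subtype.ext (funext fun j => ?_)
    rw [mul_smul, hg]
    have e : (x : GolayPt → ℤ) j = (u : GolayPt → ℤ) (σ.symm j) := by rw [hx, permHom_apply]
    split_ifs with h
    · omega
    · rcases hxu j with e' | e'
      · exact absurd e' h
      · omega
  · rw [mul_smul]
    have e := hxv i
    have ho := hu i
    simp only [rel, hg, Equiv.symm_apply_apply, sg]
    rcases hxu (σ i) with e' | e' <;> split_ifs <;> first | omega | ring1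

/-- The points where `f` disagrees with `m` modulo 4. -/
def diffSet (m f : GolayPt → ℤ) : Finset GolayPt :=
  Finset.univ.filter fun i => ¬ f i % 4 = m i % 4

theorem diffSet_congr {m m' f f' : GolayPt → ℤ} (hm : ∀ i, m i = m' i) (hf : ∀ i, f i = f' i) :
    diffSet m f = diffSet m' f' := by
  rw [funext hm, funext hf]

theorem support_red_eq {b : GolayPt → ℤ} {s : Finset GolayPt}
    (h : ∀ i, b i % 2 = 1 ↔ i ∈ s) : support₂ (red b) = s := by
  ext i; rw [mem_support₂_red, h]

/-- For odd vectors the disagreement is a word of the code. -/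
theorem diffSet_mem_odd {u y : leechLattice} (hu : IsOdd u) (hy : IsOdd y) :
    diffSet (mag u) (rel u y) ∈ supports (golayCode : Set (GolayPt → ZMod 2)) := by
  let b : GolayPt → ℤ := fun i => ((y : GolayPt → ℤ) i - (u : GolayPt → ℤ) i) / 2
  have hb : ∀ i, (y : GolayPt → ℤ) i - (u : GolayPt → ℤ) i = 2 * b i := fun i => by
    have := hu i; have := hy i; simp only [b]; omega
  refine mem_supports (half_sub_mem hb) (support_red_eq fun i => ?_)
  have h1 := hu i
  have h2 := hy i
  have h3 := hb i
  rw [diffSet, Finset.mem_filter, ← rel_self u i]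
  simp only [Finset.mem_univ, true_and, rel, sg]
  split_ifs <;> omega

/-- For even vectors the coordinates `2 mod 4` form a word of the code. -/
theorem diffSet_mem_even {u y : leechLattice} (hy : ∀ i, (y : GolayPt → ℤ) i % 2 = 0) :
    diffSet (fun _ => 0) (rel u y) ∈ supports (golayCode : Set (GolayPt → ZMod 2)) := by
  let b : GolayPt → ℤ := fun i => (y : GolayPt → ℤ) i / 2
  have hb : ∀ i, (y : GolayPt → ℤ) i - ((0 : leechLattice) : GolayPt → ℤ) i = 2 * b i := fun i => by
    have := hy i; simp only [b, ZeroMemClass.coe_zero, Pi.zero_apply]; omega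
  refine mem_supports (half_sub_mem hb) (support_red_eq fun i => ?_)
  have h2 := hy i
  rw [diffSet, Finset.mem_filter]
  simp only [Finset.mem_univ, true_and, rel, sg, b]
  split_ifs <;> omega

/-- An even vector from a word of the code and the product with an odd vector. -/
theorem exists_even {u : leechLattice} (hu : IsOdd u) (f : GolayPt → ℤ)
    (hf : ∀ i, f i % 2 = 0)
    (hD : diffSet (fun _ => 0) f ∈ supports (golayCode : Set (GolayPt → ZMod 2)))
    (h8 : (8 : ℤ) ∣ ∑ i, mag u i * f i) : ∃ y : leechLattice, ∀ i, rel u y i = f i := by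
  let a : GolayPt → ℤ := fun i => f i / 2 * sg ((u : GolayPt → ℤ) i)
  have ha : ∀ i, f i * sg ((u : GolayPt → ℤ) i) = 2 * a i := fun i => by
    have := hf i; simp only [a, sg]; split_ifs <;> omega
  obtain ⟨w, hw, hwD⟩ := hD
  have hsupp : support₂ (red a) = diffSet (fun _ => 0) f := support_red_eq fun i => by
    have := hf i
    rw [diffSet, Finset.mem_filter]
    simp only [Finset.mem_univ, true_and, a, sg]
    split_ifs <;> omega
  have hmem : red a ∈ golayCode := Golay.support₂_injective (hwD.trans hsupp.symm) ▸ hw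
  have hev : (2 : ℤ) ∣ ∑ i, a i := by
    have h := code_orth one_mem_code hmem
    rw [dot₂_apply] at h
    rw [← intCast_two_eq_zero, Int.cast_sum, ← h]
    exact Finset.sum_congr rfl fun i _ => by rw [Pi.one_apply, one_mul, red_apply]
  by_cases h4 : (4 : ℤ) ∣ ∑ i, a i
  · refine ⟨⟨_, two_mul_mem hmem h4⟩, fun i => ?_⟩
    simp only [rel, ← ha i, mul_assoc, sg_sq, mul_one]
  exfalso
  have hz : (fun i => 2 * (a i + single none 2 i)) ∈ leechLattice := by
    refine two_mul_mem ?_ ?_
    · have : red (fun i => a i + single none 2 i) = red a := by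
        funext i
        rw [red_apply, red_apply]
        simp only [single]
        split_ifs
        · push_cast; rw [show ((2 : ZMod 2)) = 0 from by decide, add_zero]
        · simp
      rw [this]; exact hmem
    · rw [Finset.sum_add_distrib, sum_single]; omega
  have h := eight_dvd_dotInt u.2 hz
  have e : dotInt (u : GolayPt → ℤ) (fun i => 2 * (a i + single none 2 i)) =
      ∑ i, mag u i * f i + 4 * (u : GolayPt → ℤ) none := by
    rw [← sum_single (none : GolayPt) (4 * (u : GolayPt → ℤ) none), ← Finset.sum_add_distrib]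
    refine Finset.sum_congr rfl fun i _ => ?_
    rw [show mag u i = (u : GolayPt → ℤ) i * sg ((u : GolayPt → ℤ) i) from (sg_mul_self _).symm]
    simp only [single]
    split_ifs with e
    · subst e; linear_combination -(u : GolayPt → ℤ) none * ha none
    · linear_combination -(u : GolayPt → ℤ) i * ha i
  rw [e] at h
  have := hu none
  omega

/-- An odd vector from a word of the code and the product with an odd vector. -/
theorem exists_odd {u : leechLattice} (hu : IsOdd u) (hu8 : (8 : ℤ) ∣ nrm u) (f : GolayPt → ℤ)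
    (hf : ∀ i, f i % 2 = 1)
    (hD : diffSet (mag u) f ∈ supports (golayCode : Set (GolayPt → ZMod 2)))
    (h8 : (8 : ℤ) ∣ ∑ i, mag u i * f i) : ∃ y : leechLattice, ∀ i, rel u y i = f i := by
  obtain ⟨y, hy⟩ := exists_even hu (fun i => f i - mag u i)
    (fun i => by have := hf i; have := hu.mag_odd i; omega)
    (by
      have : diffSet (fun _ => 0) (fun i => f i - mag u i) = diffSet (mag u) f := by
        ext i
        simp only [diffSet, Finset.mem_filter, Finset.mem_univ, true_and]
        omega
      rw [this]; exact hD)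
    (by
      have e : ∑ i, mag u i * (f i - mag u i) = ∑ i, mag u i * f i - nrm u := by
        rw [nrm_rel u u, ← Finset.sum_sub_distrib]
        exact Finset.sum_congr rfl fun i _ => by rw [rel_self]; ring
      rw [e]; exact dvd_sub h8 hu8)
  exact ⟨y + u, fun i => by rw [rel_add, hy, rel_self]; ring⟩

end CfsgLib.LeechTriples
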