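import Mathlib
import Cfsg.Agent.LeechTriples.Rel

/-! The three shapes of vectors of squared length 32 and sums over them. -/

set_option autoImplicit false

namespace CfsgLib.LeechTriples

open Cfsg CfsgLib.Leech

/-- Points with negative value. -/
def negSet (S : Finset GolayPt) (f : GolayPt → ℤ) : Finset GolayPt := S.filter fun i => f i < 0

theorem sum_pm {S : Finset GolayPt} {f : GolayPt → ℤ} {c : ℤ}
    (h : ∀ i ∈ S, f i = c ∨ f i = -c) (hc : 0 < c) :
    ∑ i ∈ S, f i = c * ((S.card : ℤ) - 2 * (negSet S f).card) := by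
  rw [negSet, Finset.card_filter, Nat.cast_sum, Finset.mul_sum, Finset.card_eq_sum_ones,
    Nat.cast_sum, ← Finset.sum_sub_distrib, Finset.mul_sum]
  refine Finset.sum_congr rfl fun i hi => ?_
  rcases h i hi with e | e <;> rw [e] <;> split_ifs <;> push_cast <;> omega

theorem sum_sq_const {S : Finset GolayPt} {f : GolayPt → ℤ} {c : ℤ}
    (h : ∀ i ∈ S, f i = c ∨ f i = -c) : ∑ i ∈ S, f i ^ 2 = c ^ 2 * S.card := by
  rw [Finset.sum_congr rfl fun i hi => show f i ^ 2 = c ^ 2 by
    rcases h i hi with e | e <;> rw [e] <;> ring, Finset.sum_const, nsmul_eq_mul]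
  ring

/-- Two coordinates `±4`. -/
def IsTwo (f : GolayPt → ℤ) : Prop :=
  ∃ i j, i ≠ j ∧ (f i = 4 ∨ f i = -4) ∧ (f j = 4 ∨ f j = -4) ∧ ∀ k, k ≠ i → k ≠ j → f k = 0

/-- An octad of coordinates `±2`. -/
def IsOct (f : GolayPt → ℤ) : Prop :=
  ∃ O ∈ octads, (∀ i ∈ O, f i = 2 ∨ f i = -2) ∧ ∀ i, i ∉ O → f i = 0

/-- One coordinate `±3`, the others `±1`. -/
def IsThree (f : GolayPt → ℤ) : Prop :=
  ∃ i, (f i = 3 ∨ f i = -3) ∧ ∀ k, k ≠ i → (f k = 1 ∨ f k = -1)

theorem shape32_raw (y : leechLattice) (hy : nrm y = 32) :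
    IsTwo (y : GolayPt → ℤ) ∨ IsOct (y : GolayPt → ℤ) ∨ IsThree (y : GolayPt → ℤ) := by
  have hy' : ∑ i, (y : GolayPt → ℤ) i ^ 2 = 32 := hy
  have bd : ∀ x : ℤ, 0 ≤ x ^ 2 := sq_nonneg
  rcases leech_cases y.2 with ⟨a, ha, hc, -⟩ | ⟨a, ha, -, -⟩
  · have hsq : ∑ i, a i ^ 2 = 8 := by
      have : ∑ i, (y : GolayPt → ℤ) i ^ 2 = 4 * ∑ i, a i ^ 2 := by
        rw [Finset.mul_sum]; exact Finset.sum_congr rfl fun i _ => by rw [ha i]; ring
      omega
    by_cases h0 : red a = 0
    · left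
      rw [red_eq_zero_iff] at h0
      choose z hz using h0
      have hz2 : ∑ i, z i ^ 2 = 2 := by
        have : ∑ i, a i ^ 2 = 4 * ∑ i, z i ^ 2 := by
          rw [Finset.mul_sum]; exact Finset.sum_congr rfl fun i _ => by rw [hz i]; ring
        omega
      set Z := Finset.univ.filter fun i => z i ≠ 0 with hZ
      have hZsum : ∑ i ∈ Z, z i ^ 2 = 2 := by
        rw [← hz2, hZ, Finset.sum_filter]
        exact Finset.sum_congr rfl fun i _ => by by_cases e : z i = 0 <;> simp [e]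
      have h1 : ∀ i ∈ Z, 1 ≤ z i ^ 2 := fun i hi => by
        have := sq_pos_of_ne_zero (Finset.mem_filter.1 hi).2; omega
      have hle : ∀ i ∈ Z, z i = 1 ∨ z i = -1 := fun i hi => by
        have h2 : z i ^ 2 ≤ 2 :=
          hz2 ▸ Finset.single_le_sum (fun j _ => bd (z j)) (Finset.mem_univ i)
        have : -1 ≤ z i ∧ z i ≤ 1 := ⟨by nlinarith, by nlinarith⟩
        have := (Finset.mem_filter.1 hi).2
        omega
      rw [sum_sq_const hle] at hZsum
      obtain ⟨i, j, hij, hZij⟩ := Finset.card_eq_two.1 (show Z.card = 2 by omega)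
      have hval : ∀ k, (y : GolayPt → ℤ) k = 4 * z k := fun k => by rw [ha k, hz k]; ring
      refine ⟨i, j, hij, ?_, ?_, fun k h h' => ?_⟩
      · rw [hval]; have := hle i (by rw [hZij]; simp); omega
      · rw [hval]; have := hle j (by rw [hZij]; simp); omega
      · have : k ∉ Z := by rw [hZij]; simp [h, h']
        rw [hval]
        have : z k = 0 := by simpa [hZ] using this
        omega
    · right; left
      set S := support₂ (red a) with hS
      have h8 := eight_le_weight hc h0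
      rw [← hS] at h8
      have hS1 : ∀ i ∈ S, 1 ≤ a i ^ 2 := fun i hi => by
        have := (mem_support₂_red a i).1 hi
        have : a i ≠ 0 := by omega
        have := sq_pos_of_ne_zero this; omega
      have hsplit := Finset.sum_add_sum_compl S fun i => a i ^ 2
      have hlow : (S.card : ℤ) ≤ ∑ i ∈ S, a i ^ 2 := by
        calc (S.card : ℤ) = ∑ _i ∈ S, (1 : ℤ) := by simp
          _ ≤ _ := Finset.sum_le_sum hS1
      have hrest : 0 ≤ ∑ i ∈ Sᶜ, a i ^ 2 := Finset.sum_nonneg fun i _ => bd _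
      rw [hsq] at hsplit
      have hout : ∀ i, i ∉ S → a i = 0 := fun i hi => by
        have h := Finset.single_le_sum (f := fun j => a j ^ 2) (fun j _ => bd (a j))
          (Finset.mem_compl.2 hi)
        by_contra hne
        have := sq_pos_of_ne_zero hne
        omega
      have hone : ∀ i ∈ S, a i = 1 ∨ a i = -1 := fun i hi => by
        by_contra hne
        have : ∑ _j ∈ S, (1 : ℤ) < ∑ j ∈ S, a j ^ 2 := Finset.sum_lt_sum hS1 ⟨i, hi, by
          have h1 := hS1 i hi
          rcases lt_or_eq_of_le h1 with h | h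
          · exact h
          · exact absurd (sq_eq_one_iff.1 h.symm) hne⟩
        simp at this
        omega
      refine ⟨S, ⟨mem_supports hc rfl, by omega⟩, fun i hi => ?_, fun i hi => ?_⟩
      · rw [ha i]; have := hone i hi; omega
      · rw [ha i, hout i hi]; norm_num
  · right; right
    have hodd : ∀ i, (y : GolayPt → ℤ) i % 2 = 1 := fun i => by rw [ha i]; omega
    have h1 : ∀ i, 1 ≤ (y : GolayPt → ℤ) i ^ 2 := fun i => by
      have : (y : GolayPt → ℤ) i ≠ 0 := by have := hodd i; omega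
      have := sq_pos_of_ne_zero this; omega
    have hsum' : ∀ s : Finset GolayPt, (s.card : ℤ) ≤ ∑ i ∈ s, (y : GolayPt → ℤ) i ^ 2 := fun s => by
      calc (s.card : ℤ) = ∑ _i ∈ s, (1 : ℤ) := by simp
        _ ≤ _ := Finset.sum_le_sum fun i _ => h1 i
    obtain ⟨i, hi⟩ : ∃ i, (y : GolayPt → ℤ) i ^ 2 ≠ 1 := by
      by_contra! hall
      rw [Finset.sum_congr rfl fun i _ => hall i] at hy'
      simp at hy'
    have hadd := Finset.add_sum_erase Finset.univ (fun k => (y : GolayPt → ℤ) k ^ 2)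
      (Finset.mem_univ i)
    have hcard : (Finset.univ.erase i).card = 23 := by
      rw [Finset.card_erase_of_mem (Finset.mem_univ i)]; simp
    have h23 := hsum' (Finset.univ.erase i)
    rw [hcard] at h23
    rw [hy'] at hadd
    push_cast at h23
    have hb : -3 ≤ (y : GolayPt → ℤ) i ∧ (y : GolayPt → ℤ) i ≤ 3 := ⟨by nlinarith, by nlinarith⟩
    have hi3 : (y : GolayPt → ℤ) i = 3 ∨ (y : GolayPt → ℤ) i = -3 := by
      have := hodd i
      have : (y : GolayPt → ℤ) i ≠ 1 := fun e => hi (by rw [e]; norm_num)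
      have : (y : GolayPt → ℤ) i ≠ -1 := fun e => hi (by rw [e]; norm_num)
      omega
    refine ⟨i, hi3, fun k hk => sq_eq_one_iff.1 ?_⟩
    have hsum23 : ∑ j ∈ Finset.univ.erase i, (y : GolayPt → ℤ) j ^ 2 = 23 := by
      rcases hi3 with e | e <;> rw [e] at hadd <;> omega
    by_contra hne
    have : ∑ _j ∈ Finset.univ.erase i, (1 : ℤ) <
        ∑ j ∈ Finset.univ.erase i, (y : GolayPt → ℤ) j ^ 2 :=
      Finset.sum_lt_sum (fun j _ => h1 j)
        ⟨k, Finset.mem_erase.2 ⟨hk, Finset.mem_univ k⟩, lt_of_le_of_ne (h1 k) (Ne.symm hne)⟩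
    rw [Finset.sum_const, hcard, hsum23] at this
    norm_num at this

theorem pm_rel (u y : leechLattice) (i : GolayPt) (c : ℤ)
    (h : (y : GolayPt → ℤ) i = c ∨ (y : GolayPt → ℤ) i = -c) : rel u y i = c ∨ rel u y i = -c := by
  simp only [rel, sg]; split_ifs <;> omega

theorem shape32 (u y : leechLattice) (hy : nrm y = 32) :
    IsTwo (rel u y) ∨ IsOct (rel u y) ∨ IsThree (rel u y) := by
  have h0 : ∀ i, (y : GolayPt → ℤ) i = 0 → rel u y i = 0 := fun i h => by simp [rel, h]
  rcases shape32_raw y hy with ⟨i, j, hij, hi, hj, hk⟩ | ⟨O, hO, h, hk⟩ | ⟨i, hi, hk⟩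
  · exact Or.inl ⟨i, j, hij, pm_rel u y i 4 hi, pm_rel u y j 4 hj,
      fun k h h' => h0 k (hk k h h')⟩
  · exact Or.inr (Or.inl ⟨O, hO, fun i hi => pm_rel u y i 2 (h i hi), fun i hi => h0 i (hk i hi)⟩)
  · exact Or.inr (Or.inr ⟨i, pm_rel u y i 3 hi, fun k h => pm_rel u y k 1 (hk k h)⟩)

theorem sum_two {f : GolayPt → ℤ} {i j : GolayPt} (hij : i ≠ j)
    (h : ∀ k, k ≠ i → k ≠ j → f k = 0) : ∑ k, f k = f i + f j := by
  rw [← Finset.sum_pair hij]
  exact (Finset.sum_subset (Finset.subset_univ _) fun k _ hk => by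
    simp only [Finset.mem_insert, Finset.mem_singleton, not_or] at hk
    exact h k hk.1 hk.2).symm

theorem sum_oct {f : GolayPt → ℤ} {O : Finset GolayPt} (hO : O ∈ octads)
    (h : ∀ i ∈ O, f i = 2 ∨ f i = -2) (h0 : ∀ i, i ∉ O → f i = 0) :
    ∑ k, f k = 16 - 4 * (negSet O f).card := by
  rw [← Finset.sum_subset (Finset.subset_univ O) fun k _ hk => h0 k hk, sum_pm h (by norm_num),
    hO.2]
  ring

theorem sum_three {f : GolayPt → ℤ} {i : GolayPt}
    (h : ∀ k, k ≠ i → f k = 1 ∨ f k = -1) :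
    ∑ k, f k = f i + 23 - 2 * (negSet (Finset.univ.erase i) f).card := by
  rw [← Finset.add_sum_erase Finset.univ f (Finset.mem_univ i),
    sum_pm (fun k hk => h k (Finset.mem_erase.1 hk).1) one_pos,
    Finset.card_erase_of_mem (Finset.mem_univ i)]
  simp
  ring

theorem rel_eq_zero_even {u y : leechLattice} {i : GolayPt} (h : rel u y i % 2 = 0) :
    (y : GolayPt → ℤ) i % 2 = 0 := by
  rw [coord_eq u y i, Int.mul_emod, h]
  simp

/-- Parity propagates from one coordinate. -/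
theorem parity_all (y : leechLattice) :
    (∀ i, (y : GolayPt → ℤ) i % 2 = 0) ∨ ∀ i, (y : GolayPt → ℤ) i % 2 = 1 := by
  rcases leech_cases y.2 with ⟨a, ha, -, -⟩ | ⟨a, ha, -, -⟩
  · exact Or.inl fun i => by rw [ha i]; omega
  · exact Or.inr fun i => by rw [ha i]; omega

theorem eight_le_code {s : Finset GolayPt}
    (hs : s ∈ supports (golayCode : Set (GolayPt → ZMod 2))) (h : s.Nonempty) : 8 ≤ s.card := by
  obtain ⟨w, hw, rfl⟩ := hs
  refine eight_le_weight hw fun e => ?_
  obtain ⟨i, hi⟩ := h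
  rw [mem_support₂_iff, e] at hi
  exact hi rfl

theorem sum_weighted (f m : GolayPt → ℤ) (P : Finset GolayPt) (h : ∀ i, i ∉ P → m i = 1) :
    ∑ i, m i * f i = ∑ i, f i + ∑ i ∈ P, (m i - 1) * f i := by
  rw [Finset.sum_subset (Finset.subset_univ P) (f := fun i => (m i - 1) * f i)
    fun k _ hk => by simp [h k hk], ← Finset.sum_add_distrib]
  exact Finset.sum_congr rfl fun i _ => by ring

end CfsgLib.LeechTriples
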