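import Mathlib
import Cfsg.Agent.LeechTriples.Shape
import Cfsg.Agent.Leech.NormalForm
import Cfsg.Agent.Leech.Norm48
import Cfsg.Agent.Golay.Counts
import Cfsg.Agent.M24Orbits.Transitive

/-! A vector of squared length 32, one orthogonal to it of the same length, and one of squared
length 48 with products 16 and 24: one orbit.  Any pair with product 16 extends to such a triple. -/

set_option autoImplicit false

namespace CfsgLib.LeechTriples

open Cfsg CfsgLib.Leech
open scoped Pointwise symmDiff

theorem ip_rel_rel (u c x : leechLattice) : ip c x = ∑ i, rel u c i * rel u x i :=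
  Finset.sum_congr rfl fun i _ => by
    rw [rel, rel]
    linear_combination -(c : GolayPt → ℤ) i * (x : GolayPt → ℤ) i * sg_sq ((u : GolayPt → ℤ) i)

/-- The magnitudes of a vector of squared length 48 with a `5`. -/
def mag5 (i : GolayPt) : ℤ := if i = none then 5 else 1

theorem sum_mag5 (f : GolayPt → ℤ) : ∑ i, mag5 i * f i = ∑ i, f i + 4 * f none := by
  rw [sum_weighted f mag5 {none} fun i hi => by simp_all [mag5]]
  simp [mag5]

theorem mag_leechV : (∀ i, mag Spor.leechV i = mag5 i) ∧ IsOdd Spor.leechV ∧
    ∀ i, sg ((Spor.leechV : GolayPt → ℤ) i) = -1 := by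
  refine ⟨fun i => ?_, fun i => ?_, fun i => ?_⟩ <;>
    simp only [mag, mag5, sg, Spor.leechV, Spor.vecV] <;> split_ifs <;> norm_num at *

theorem exists_other (s : Finset GolayPt) (h : s.card < 24) : ∃ p, p ∉ s := by
  by_contra! hall
  have : s = Finset.univ := Finset.eq_univ_of_forall hall
  rw [this] at h
  simp at h

/-- A pair with product 16 has a summand orthogonal to the first. -/
theorem exists_hs_point (c v : leechLattice) (hc : nrm c = 32) (hv : nrm v = 48)
    (hd : ip c v = 16) : ∃ x, nrm x = 32 ∧ ip c x = 0 ∧ ip x v = 24 := by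
  obtain ⟨g, hg⟩ := exists_smul_norm48 v Spor.leechV hv nrm_leechV
  suffices ∃ x, nrm x = 32 ∧ ip (g • c) x = 0 ∧ ip x Spor.leechV = 24 by
    obtain ⟨x, h1, h2, h3⟩ := this
    refine ⟨g⁻¹ • x, by rw [nrm_smul, h1], ?_, ?_⟩
    · rw [← ip_smul g, smul_inv_smul, h2]
    · rw [← ip_smul g, smul_inv_smul, hg, h3]
  have hc' : nrm (g • c) = 32 := by rw [nrm_smul, hc]
  obtain ⟨hm, hodd, hsg⟩ := mag_leechV
  set f := rel Spor.leechV (g • c) with hf
  have hsum : ∑ i, f i + 4 * f none = 16 := by
    rw [← sum_mag5, ← hd, ← ip_smul g, hg, ip_comm, ip_rel]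
    simp only [hm, hf]
  by_cases hj : ∃ j, j ≠ none ∧ f j = -f none
  · obtain ⟨j, hjn, hjf⟩ := hj
    refine ⟨fourPair none j (-1) (-1) (by norm_num), ?_, ?_, ?_⟩
    · rw [nrm_fourPair hjn.symm]; norm_num
    · rw [ip_comm, ip_fourPair]
      have e0 : f none = -((g • c : leechLattice) : GolayPt → ℤ) none := by
        simp [hf, rel, hsg]
      have e1 : f j = -((g • c : leechLattice) : GolayPt → ℤ) j := by
        simp [hf, rel, hsg]
      omega
    · rw [ip_fourPair]
      simp [Spor.leechV, Spor.vecV, hjn]
  push Not at hj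
  have hsh : IsTwo f ∨ IsOct f ∨ IsThree f := shape32 Spor.leechV _ hc'
  rcases hsh with ⟨i, j, hij, hi, hj', hk⟩ | ⟨O, hO, hOv, hO0⟩ | ⟨i, hi, hk⟩
  · have hs := sum_two hij hk
    rcases eq_or_ne i none with rfl | hin
    · have := hj j hij.symm
      omega
    rcases eq_or_ne j none with rfl | hjn
    · have := hj i hin
      omega
    · have := hk none hin.symm hjn.symm
      omega
  · have hcard : (insert none O).card < 24 := by
      have := Finset.card_insert_le none O
      have := hO.2
      omega
    obtain ⟨p, hp⟩ := exists_other _ hcard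
    rw [Finset.mem_insert, not_or] at hp
    have h0 := hO0 p hp.2
    have hnO : none ∈ O := by
      by_contra hn
      have := hO0 none hn
      exact hj p hp.1 (by omega)
    have hconst : ∀ k ∈ O, f k = f none := fun k hk' => by
      rcases eq_or_ne k none with rfl | hkn
      · rfl
      have := hj k hkn
      rcases hOv k hk' with e | e <;> rcases hOv none hnO with e' | e' <;> omega
    rw [← Finset.sum_subset (Finset.subset_univ O) fun k _ hk' => hO0 k hk',
      Finset.sum_congr rfl hconst, Finset.sum_const, hO.2] at hsum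
    rcases hOv none hnO with e' | e' <;> rw [e'] at hsum <;> norm_num at hsum
  · rcases eq_or_ne i none with rfl | hin
    · have hs := sum_three hk
      set N := negSet (Finset.univ.erase (none : GolayPt)) f with hN
      have hN' : ∀ k, k ∈ N ↔ k ≠ none ∧ f k = -1 := fun k => by
        simp only [hN, negSet, Finset.mem_filter, Finset.mem_erase, Finset.mem_univ, and_true]
        refine and_congr_right fun h => ?_
        rcases hk k h with e | e <;> omega
      have hNle : N.card ≤ 23 := le_trans (Finset.card_filter_le _ _)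
        (le_of_eq (by rw [Finset.card_erase_of_mem (Finset.mem_univ _)]; simp))
      have h3 : f none = 3 ∧ N.card = 11 := by omega
      have hoddc : IsOdd (g • c) := by
        rcases parity_all (g • c) with h | h
        · have := h none
          have h3' := h3.1
          simp [hf, rel, hsg] at h3'
          omega
        · exact h
      have hD := diffSet_mem_odd hodd hoddc
      have hDeq : diffSet (mag Spor.leechV) (rel Spor.leechV (g • c)) = insert none N := by
        ext k
        simp only [diffSet, Finset.mem_filter, Finset.mem_univ, true_and, Finset.mem_insert, hN',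
          hm, mag5, show rel Spor.leechV (g • c) k = f k from rfl]
        rcases eq_or_ne k none with rfl | hkn
        · simp [h3.1]
        · rcases hk k hkn with e | e <;> simp [hkn, e]
      rw [hDeq] at hD
      have hnN : (none : GolayPt) ∉ N := fun h => ((hN' none).1 h).1 rfl
      obtain ⟨F, hF, hF4⟩ := Finset.exists_subset_card_eq (s := N) (n := 4) (by omega)
      obtain ⟨O, hO, hsub⟩ := Golay.exists_octad_superset (s := insert none F) (by
        rw [Finset.card_insert_of_notMem fun h => hnN (hF h), hF4])
      have hnO : none ∈ O := hsub (Finset.mem_insert_self _ _)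
      have h5 : 5 ≤ (insert none N ∩ O).card := by
        refine le_trans (le_of_eq ?_) (Finset.card_le_card (Finset.subset_inter
          (Finset.insert_subset_insert none hF) hsub))
        rw [Finset.card_insert_of_notMem fun h => hnN (hF h), hF4]
      have h6 : (insert none N ∩ O).card = 6 := by
        have hw := Golay.card_mem (Golay.symmDiff_mem hD hO.1)
        have h := Golay.card_symmDiff_add (insert none N) O
        rw [Finset.card_insert_of_notMem hnN, hO.2, h3.2] at h
        have := Finset.card_le_card (Finset.inter_subset_right : insert none N ∩ O ⊆ O)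
        have := hO.2
        omega
      obtain ⟨x, hx⟩ := exists_even hodd (fun k => if k ∈ O then 2 else 0)
        (fun k => by split_ifs <;> norm_num)
        (by
          have : diffSet (fun _ => 0) (fun k => if k ∈ O then (2 : ℤ) else 0) = O := by
            ext k; simp only [diffSet, Finset.mem_filter, Finset.mem_univ, true_and]
            split_ifs with e <;> simp [e]
          rw [this]; exact hO.1)
        (by
          simp only [hm, sum_mag5, if_pos hnO, Finset.sum_ite_mem, Finset.univ_inter,
            Finset.sum_const, hO.2]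
          norm_num)
      refine ⟨x, ?_, ?_, ?_⟩
      · rw [nrm_rel Spor.leechV, Finset.sum_congr rfl fun k _ => by rw [hx k]]
        simp only [ite_pow, Finset.sum_ite_mem, Finset.univ_inter, ne_eq, OfNat.ofNat_ne_zero,
          not_false_eq_true, zero_pow, Finset.sum_const, hO.2]
        norm_num
      · rw [ip_rel_rel Spor.leechV]
        simp only [hx, show ∀ k, rel Spor.leechV (g • c) k = f k from fun _ => rfl, mul_ite, mul_zero, Finset.sum_ite_mem, Finset.univ_inter,
          ← Finset.sum_mul]
        rw [← Finset.add_sum_erase O f hnO, h3.1, sum_pm (c := 1)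
          (fun k hk' => hk k (Finset.mem_erase.1 hk').1) one_pos,
          Finset.card_erase_of_mem hnO, hO.2]
        have hset : insert none N ∩ O = insert none (negSet (O.erase none) f) := by
          ext k
          simp only [Finset.mem_inter, Finset.mem_insert, hN', negSet, Finset.mem_filter,
            Finset.mem_erase]
          rcases eq_or_ne k none with rfl | hkn
          · simp [hnO]
          · simp only [hkn, false_or, ne_eq, not_false_eq_true, true_and]
            rcases hk k hkn with e | e <;> simp [e]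
        rw [hset, Finset.card_insert_of_notMem (by simp [negSet])] at h6
        omega
      · rw [ip_comm, ip_rel]
        simp only [hm, hx, sum_mag5, if_pos hnO, Finset.sum_ite_mem, Finset.univ_inter,
          Finset.sum_const, hO.2]
        norm_num
    · have hn1 := hk none hin.symm
      have hconst : ∀ k, k ≠ i → f k = f none := fun k hki => by
        rcases eq_or_ne k none with rfl | hkn
        · rfl
        have := hj k hkn
        rcases hk k hki with e | e <;> rcases hn1 with e' | e' <;> omega
      rw [← Finset.add_sum_erase Finset.univ f (Finset.mem_univ i),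
        Finset.sum_congr rfl fun k hk' => hconst k (Finset.mem_erase.1 hk').1, Finset.sum_const,
        Finset.card_erase_of_mem (Finset.mem_univ i)] at hsum
      rcases hn1 with e' | e' <;> rcases hi with e | e <;> rw [e, e'] at hsum <;>
        simp at hsum

theorem hs_shape {v : leechLattice} (hn : nrm v = 48) (h1 : ip Spor.leechU v = 16)
    (h2 : ip Spor.leechU' v = 24) :
    (v : GolayPt → ℤ) none = 5 ∧ (v : GolayPt → ℤ) (some 0) = -1 ∧ IsOdd v ∧
      ∀ i, mag v i = mag5 i := by
  obtain ⟨e0, e1⟩ := base_values h1 h2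
  have a0 : (v : GolayPt → ℤ) none = 5 := by omega
  have a1 : (v : GolayPt → ℤ) (some 0) = -1 := by omega
  have hodd : IsOdd v := by
    rcases parity_all v with h | h
    · have := h none; omega
    · exact h
  refine ⟨a0, a1, hodd, fun i => ?_⟩
  have hsp := nrm_split v
  rw [hn, a0, a1] at hsp
  have hone := all_eq_one_of_sum_le (fun i _ => one_le_sq_of_odd (hodd i))
    (by rw [card_restPts]; norm_num at hsp ⊢; omega : _ ≤ (restPts.card : ℤ))
  rcases eq_or_ne i none with rfl | hi
  · simp [mag, mag5, a0]
  rcases eq_or_ne i (some 0) with rfl | hi'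
  · simp [mag, mag5, a1]
  · rw [mag, mag5, if_neg hi]
    exact abs_eq (zero_le_one) |>.2 (sq_eq_one_iff.1 (hone i (mem_restPts.2 ⟨hi, hi'⟩)))

theorem rel_hsU {v : leechLattice} (h0 : (v : GolayPt → ℤ) none = 5)
    (h1 : (v : GolayPt → ℤ) (some 0) = -1) (i : GolayPt) :
    rel v Spor.leechU i = (if i = none then 4 else if i = some 0 then -4 else 0) ∧
      rel v Spor.leechU' i = (if i = none then 4 else if i = some 0 then 4 else 0) := by
  constructor <;> simp only [rel, sg, Spor.leechU, Spor.leechU', Spor.vecU, Spor.vecU'] <;>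
    split_ifs <;> simp_all

/-- Triples `(c, x, v)` form one orbit; the permutation part can be prescribed. -/
theorem hs_mono {σ : Equiv.Perm GolayPt} (hσ : σ ∈ M24) (h0 : σ none = none)
    (h1 : σ (some 0) = some 0) {v v' : leechLattice} (hn : nrm v = 48)
    (hu : ip Spor.leechU v = 16) (hu' : ip Spor.leechU' v = 24) (hn' : nrm v' = 48)
    (hw : ip Spor.leechU v' = 16) (hw' : ip Spor.leechU' v' = 24) :
    ∃ g : Co0, g • Spor.leechU = Spor.leechU ∧ g • Spor.leechU' = Spor.leechU' ∧ g • v = v' ∧
      ∀ y i, rel v' (g • y) (σ i) = rel v y i := by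
  obtain ⟨a0, a1, hodd, hm⟩ := hs_shape hn hu hu'
  obtain ⟨b0, b1, -, hm'⟩ := hs_shape hn' hw hw'
  have hσ0 : ∀ i, σ i = none ↔ i = none := fun i => by
    conv_lhs => rw [← h0]
    exact σ.injective.eq_iff
  have hσ1 : ∀ i, σ i = some 0 ↔ i = some 0 := fun i => by
    conv_lhs => rw [← h1]
    exact σ.injective.eq_iff
  obtain ⟨g, hg, hrel⟩ := exists_mono hσ v v' hodd fun i => by
    rw [hm', hm]; simp only [mag5, hσ0]
  refine ⟨g, ?_, ?_, hg, hrel⟩ <;> refine rel_inj (u := v') fun j => ?_ <;>
    obtain ⟨i, rfl⟩ := σ.surjective j <;> rw [hrel]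
  · rw [(rel_hsU a0 a1 i).1, (rel_hsU b0 b1 (σ i)).1]; simp only [hσ0, hσ1]
  · rw [(rel_hsU a0 a1 i).2, (rel_hsU b0 b1 (σ i)).2]; simp only [hσ0, hσ1]

theorem exists_hsTriple (c x v c' x' v' : leechLattice) (hc : nrm c = 32) (hx : nrm x = 32)
    (hv : nrm v = 48) (hcx : ip c x = 0) (hcv : ip c v = 16) (hxv : ip x v = 24)
    (hc' : nrm c' = 32) (hx' : nrm x' = 32) (hv' : nrm v' = 48) (hcx' : ip c' x' = 0)
    (hcv' : ip c' v' = 16) (hxv' : ip x' v' = 24) :
    ∃ g : Co0, g • c = c' ∧ g • x = x' ∧ g • v = v' := by
  obtain ⟨g, hg1, hg2⟩ := exists_pair_base c x hc hx hcx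
  obtain ⟨h, hh1, hh2⟩ := exists_pair_base c' x' hc' hx' hcx'
  obtain ⟨k, hk1, hk2, hk3, -⟩ := hs_mono (σ := 1) (one_mem _) rfl rfl
    (v := g • v) (v' := h • v') (by rw [nrm_smul, hv]) (by rw [← hg1, ip_smul, hcv])
    (by rw [← hg2, ip_smul, hxv]) (by rw [nrm_smul, hv']) (by rw [← hh1, ip_smul, hcv'])
    (by rw [← hh2, ip_smul, hxv'])
  refine ⟨h⁻¹ * k * g, ?_, ?_, ?_⟩ <;> simp only [mul_smul]
  · rw [hg1, hk1, ← hh1, inv_smul_smul]
  · rw [hg2, hk2, ← hh2, inv_smul_smul]
  · rw [hk3, inv_smul_smul]

/-- Pairs with product 16 form one orbit. -/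
theorem exists_hsPair (c v c' v' : leechLattice) (hc : nrm c = 32) (hv : nrm v = 48)
    (hd : ip c v = 16) (hc' : nrm c' = 32) (hv' : nrm v' = 48) (hd' : ip c' v' = 16) :
    ∃ g : Co0, g • c = c' ∧ g • v = v' := by
  obtain ⟨x, h1, h2, h3⟩ := exists_hs_point c v hc hv hd
  obtain ⟨x', h1', h2', h3'⟩ := exists_hs_point c' v' hc' hv' hd'
  obtain ⟨g, hg, -, hg'⟩ := exists_hsTriple c x v c' x' v' hc h1 hv h2 hd h3 hc' h1' hv' h2' hd' h3'
  exact ⟨g, hg, hg'⟩

/-- From two vectors of squared length 48 with product `-32`. -/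
theorem hs_sum {v w : leechLattice} (hv : nrm v = 48) (hw : nrm w = 48) (h : ip v w = -32) :
    nrm (v + w) = 32 ∧ ip (v + w) v = 16 ∧ ip (v + w) w = 16 := by
  refine ⟨by rw [nrm_add, hv, hw, h]; norm_num, ?_, ?_⟩ <;> rw [ip_comm, ip_add_right, ip_self]
  · rw [hv, h]; norm_num
  · rw [hw, ip_comm, h]; norm_num

end CfsgLib.LeechTriples
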