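import Mathlib
import Cfsg.Agent.LeechTriples.HS

/-! The 100 points of a Higman–Sims configuration. -/

set_option autoImplicit false

namespace CfsgLib.LeechTriples

open Cfsg CfsgLib.Leech
open scoped Pointwise symmDiff

/-- Points of the configuration given by `U` and `v`. -/
def hsPts (v : leechLattice) : Set leechLattice :=
  {y | nrm y = 32 ∧ ip Spor.leechU y = 0 ∧ ip v y = 24}

/-- Values at a point of the first kind. -/
def hsF3 (i : GolayPt) (r : GolayPt) : ℤ := if r = i then -3 else 1

/-- Values at a point of the second kind. -/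
def hsF2 (O : Finset GolayPt) (r : GolayPt) : ℤ := if r ∈ O then 2 else 0

/-- Octads through `∞` and `0`. -/
noncomputable def hsOcts : Finset (Finset GolayPt) :=
  Golay.octadSets.filter (({none, some 0} : Finset GolayPt) ⊆ ·)

theorem mem_hsOcts {O : Finset GolayPt} :
    O ∈ hsOcts ↔ O ∈ octads ∧ (none : GolayPt) ∈ O ∧ (some 0 : GolayPt) ∈ O := by
  simp [hsOcts, Golay.mem_octadSets, Finset.insert_subset_iff]

theorem card_hsOcts : hsOcts.card = 77 :=
  Golay.octads_through_two _ (Finset.card_pair (by simp))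

/-- The points of the first kind. -/
def hsPts3 (v : leechLattice) : Set leechLattice :=
  {y | ∃ i ∈ restPts, ∀ r, rel v y r = hsF3 i r}

/-- The points of the second kind. -/
def hsPts2 (v : leechLattice) : Set leechLattice :=
  {y | ∃ O ∈ hsOcts, ∀ r, rel v y r = hsF2 O r}

theorem ncard_param {ι : Type*} (u : leechLattice) (s : Finset ι) (F : ι → GolayPt → ℤ)
    (hinj : ∀ a ∈ s, ∀ b ∈ s, F a = F b → a = b)
    (hex : ∀ a ∈ s, ∃ y : leechLattice, ∀ r, rel u y r = F a r) :
    {y : leechLattice | ∃ a ∈ s, ∀ r, rel u y r = F a r}.ncard = s.card := by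
  choose φ hφ using hex
  rw [← Set.ncard_coe_finset s]
  refine (Set.ncard_congr (t := {y : leechLattice | ∃ a ∈ s, ∀ r, rel u y r = F a r})
    (fun a ha => φ a ha) (fun a ha => ⟨a, ha, hφ a ha⟩) ?_ ?_).symm
  · intro a b ha hb h
    refine hinj a ha b hb (funext fun r => ?_)
    have h1 := hφ a ha r
    rw [h] at h1
    exact h1.symm.trans (hφ b hb r)
  · rintro y ⟨a, ha, hy⟩
    exact ⟨a, ha, rel_inj fun r => (hφ a ha r).trans (hy r).symm⟩

theorem sum_hsF3 (i : GolayPt) : ∑ r, hsF3 i r = 20 := by
  rw [← Finset.add_sum_erase Finset.univ _ (Finset.mem_univ i),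
    Finset.sum_congr rfl fun r hr => show hsF3 i r = 1 by simp [hsF3, (Finset.mem_erase.1 hr).1],
    Finset.sum_const, Finset.card_erase_of_mem (Finset.mem_univ i)]
  simp [hsF3]

theorem sum_hsF2 {O : Finset GolayPt} (hO : O ∈ octads) : ∑ r, hsF2 O r = 16 := by
  simp only [hsF2, Finset.sum_ite_mem, Finset.univ_inter, Finset.sum_const, hO.2]
  norm_num

section

variable {v : leechLattice} (hn : nrm v = 48) (hu : ip Spor.leechU v = 16)
  (hu' : ip Spor.leechU' v = 24)
include hn hu hu'

theorem hs_ip (y : leechLattice) :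
    ip Spor.leechU y = 4 * (rel v y none - rel v y (some 0)) ∧
      ip Spor.leechU' y = 4 * (rel v y none + rel v y (some 0)) ∧
        ip v y = ∑ r, rel v y r + 4 * rel v y none := by
  obtain ⟨a0, a1, -, hm⟩ := hs_shape hn hu hu'
  refine ⟨?_, ?_, ?_⟩
  · rw [ip_leechU, rel, rel, a0, a1]; norm_num [sg]
  · rw [ip_leechU', rel, rel, a0, a1]; norm_num [sg]; ring
  · rw [ip_rel, ← sum_mag5]; simp only [hm]

theorem hs_class {y : leechLattice} (hy : y ∈ hsPts v) :
    y = Spor.leechU' ∨ y ∈ hsPts3 v ∨ y ∈ hsPts2 v := by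
  obtain ⟨hy32, hyU, hyv⟩ := hy
  obtain ⟨a0, a1, hodd, hm⟩ := hs_shape hn hu hu'
  obtain ⟨e1, -, e3⟩ := hs_ip hn hu hu' y
  rw [e1] at hyU
  rw [e3] at hyv
  set f := rel v y with hf
  have he : f (some 0) = f none := by omega
  have hsh : IsTwo f ∨ IsOct f ∨ IsThree f := shape32 v y hy32
  rcases hsh with ⟨i, j, hij, hi, hj, hk⟩ | ⟨O, hO, hOv, hO0⟩ | ⟨i, hi, hk⟩
  · left
    have hs := sum_two hij hk
    have h0 : f none ≠ 0 := fun h => by
      rw [hs, h] at hyv; omega
    have p : none = i ∨ none = j := by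
      by_contra! hp; exact h0 (hk none hp.1 hp.2)
    have q : some 0 = i ∨ some 0 = j := by
      by_contra! hp; exact h0 (he ▸ hk (some 0) hp.1 hp.2)
    refine rel_inj (u := v) fun r => ?_
    rw [(rel_hsU a0 a1 r).2]
    have hf4 : f none = 4 := by
      rcases p with rfl | rfl <;> rcases q with e | e
      · simp at e
      · subst e; omega
      · subst e; omega
      · simp at e
    by_cases r0 : r = none
    · subst r0; rw [if_pos rfl]; exact hf4
    by_cases r1 : r = some 0
    · subst r1; rw [if_neg r0, if_pos rfl]; exact he.trans hf4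
    rw [if_neg r0, if_neg r1]
    rcases p with rfl | rfl <;> rcases q with e | e
    · simp at e
    · exact hk r r0 (e ▸ r1)
    · exact hk r (e ▸ r1) r0
    · simp at e
  · right; right
    have hs := sum_oct hO hOv hO0
    have hnO : none ∈ O := by
      by_contra h
      have := hO0 none h
      omega
    have hN : negSet O f = ∅ := Finset.card_eq_zero.1 (by
      rcases hOv none hnO with e | e <;> omega)
    have hval : ∀ r ∈ O, f r = 2 := fun r hr => by
      rcases hOv r hr with e | e
      · exact e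
      · have : r ∈ negSet O f := Finset.mem_filter.2 ⟨hr, by omega⟩
        simp [hN] at this
    have h0O : some 0 ∈ O := by
      by_contra h
      have := hO0 _ h
      have := hval none hnO
      omega
    refine ⟨O, mem_hsOcts.2 ⟨hO, hnO, h0O⟩, fun r => ?_⟩
    rw [hsF2]
    split_ifs with h
    · exact hval r h
    · exact hO0 r h
  · right; left
    have hs := sum_three hk
    set N := negSet (Finset.univ.erase i) f with hN
    have hin : i ≠ none := by
      rintro rfl
      have := hk (some 0) (by simp)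
      omega
    have hi0 : i ≠ some 0 := by
      rintro rfl
      have := hk none hin.symm
      omega
    have hn1 := hk none hin.symm
    have hNle : N.card ≤ 23 := le_trans (Finset.card_filter_le _ _)
      (le_of_eq (by rw [Finset.card_erase_of_mem (Finset.mem_univ _)]; simp))
    have hi3 : f i = -3 ∧ N.card = 0 ∧ f none = 1 := by
      rcases hi with e | e
      · exfalso
        have hn3 : f none = 1 ∧ N.card = 3 := by omega
        have hoddy : IsOdd y := by
          rcases parity_all y with h | h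
          · have := h none
            have h1 := hn3.1
            simp only [hf, rel, sg] at h1
            split_ifs at h1 <;> omega
          · exact h
        have hD := eight_le_code (diffSet_mem_odd hodd hoddy) ⟨i, by
          simp only [diffSet, Finset.mem_filter, Finset.mem_univ, true_and, hm, mag5, if_neg hin,
            show rel v y i = f i from rfl, e]
          norm_num⟩
        have hsub : diffSet (mag v) (rel v y) ⊆ insert i N := fun r hr => by
          simp only [diffSet, Finset.mem_filter, Finset.mem_univ, true_and, hm, mag5,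
            show rel v y r = f r from rfl] at hr
          rcases eq_or_ne r i with h | h
          · exact Finset.mem_insert.2 (Or.inl h)
          · refine Finset.mem_insert.2 (Or.inr (Finset.mem_filter.2
              ⟨Finset.mem_erase.2 ⟨h, Finset.mem_univ _⟩, ?_⟩))
            rcases hk r h with e' | e'
            · rw [e'] at hr; split_ifs at hr <;> simp at hr
            · omega
        have := Finset.card_le_card hsub
        have := Finset.card_insert_le i N
        omega
      · omega
    refine ⟨i, mem_restPts.2 ⟨hin, hi0⟩, fun r => ?_⟩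
    rw [hsF3]
    split_ifs with h
    · subst h; exact hi3.1
    · rcases hk r h with e | e
      · exact e
      · have : r ∈ N := Finset.mem_filter.2
          ⟨Finset.mem_erase.2 ⟨h, Finset.mem_univ _⟩, by omega⟩
        rw [Finset.card_eq_zero.1 hi3.2.1] at this
        simp at this

theorem hs_pt3 {y : leechLattice} (hy : y ∈ hsPts3 v) :
    y ∈ hsPts v ∧ ip Spor.leechU' y = 8 := by
  obtain ⟨i, hi, h⟩ := hy
  obtain ⟨hin, hi0⟩ := mem_restPts.1 hi
  obtain ⟨e1, e2, e3⟩ := hs_ip hn hu hu' y
  have hn1 : hsF3 i none = 1 := by simp [hsF3, hin.symm]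
  have h01 : hsF3 i (some 0) = 1 := by simp [hsF3, hi0.symm]
  refine ⟨⟨?_, ?_, ?_⟩, ?_⟩
  · rw [nrm_rel v, Finset.sum_congr rfl fun r _ => by rw [h r],
      ← Finset.add_sum_erase Finset.univ _ (Finset.mem_univ i),
      Finset.sum_congr rfl fun r hr =>
        show hsF3 i r ^ 2 = 1 by simp [hsF3, (Finset.mem_erase.1 hr).1],
      Finset.sum_const, Finset.card_erase_of_mem (Finset.mem_univ i)]
    simp [hsF3]
  · rw [e1, h, h, hn1, h01]; norm_num
  · rw [e3, Finset.sum_congr rfl fun r _ => h r, sum_hsF3, h, hn1]; norm_num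
  · rw [e2, h, h, hn1, h01]; norm_num

theorem hs_pt2 {y : leechLattice} (hy : y ∈ hsPts2 v) :
    y ∈ hsPts v ∧ ip Spor.leechU' y = 16 := by
  obtain ⟨O, hO, h⟩ := hy
  obtain ⟨hO', hnO, h0O⟩ := mem_hsOcts.1 hO
  obtain ⟨e1, e2, e3⟩ := hs_ip hn hu hu' y
  have hn1 : hsF2 O none = 2 := by simp [hsF2, hnO]
  have h01 : hsF2 O (some 0) = 2 := by simp [hsF2, h0O]
  refine ⟨⟨?_, ?_, ?_⟩, ?_⟩
  · rw [nrm_rel v, Finset.sum_congr rfl fun r _ => by rw [h r]]
    simp only [hsF2, ite_pow, ne_eq, OfNat.ofNat_ne_zero, not_false_eq_true, zero_pow,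
      Finset.sum_ite_mem, Finset.univ_inter, Finset.sum_const, hO'.2]
    norm_num
  · rw [e1, h, h, hn1, h01]; norm_num
  · rw [e3, Finset.sum_congr rfl fun r _ => h r, sum_hsF2 hO', h, hn1]; norm_num
  · rw [e2, h, h, hn1, h01]; norm_num

theorem hs_base_pt : Spor.leechU' ∈ hsPts v ∧ ip Spor.leechU' Spor.leechU' = 32 :=
  ⟨⟨nrm_leechU', ip_leechU_leechU', by rw [ip_comm, hu']⟩, by rw [ip_self, nrm_leechU']⟩

theorem ncard_hsPts3 : (hsPts3 v).ncard = 22 := by
  obtain ⟨-, -, hodd, hm⟩ := hs_shape hn hu hu'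
  refine (ncard_param v restPts hsF3 ?_ fun i hi => ?_).trans card_restPts
  · intro a _ b _ h
    by_contra hne
    have := congrFun h a
    simp [hsF3, hne] at this
  · obtain ⟨hin, hi0⟩ := mem_restPts.1 hi
    refine exists_odd hodd (by rw [hn]; norm_num) _ (fun r => ?_) ?_ ?_
    · simp only [hsF3]; split_ifs <;> norm_num
    · have : diffSet (mag v) (hsF3 i) = ∅ := by
        ext r
        simp only [diffSet, Finset.mem_filter, Finset.mem_univ, true_and, Finset.notMem_empty,
          iff_false, not_not, hm, mag5, hsF3]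
        split_ifs <;> simp_all
      rw [this]; exact Golay.empty_mem
    · simp only [hm, sum_mag5, sum_hsF3]
      simp [hsF3, hin.symm]

theorem ncard_hsPts2 : (hsPts2 v).ncard = 77 := by
  obtain ⟨-, -, hodd, hm⟩ := hs_shape hn hu hu'
  refine (ncard_param v hsOcts hsF2 ?_ fun O hO => ?_).trans card_hsOcts
  · intro A _ B _ h
    ext r
    have := congrFun h r
    simp only [hsF2] at this
    split_ifs at this with h1 h2 <;> simp_all
  · obtain ⟨hO', hnO, -⟩ := mem_hsOcts.1 hO
    refine exists_even hodd _ (fun r => ?_) ?_ ?_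
    · simp only [hsF2]; split_ifs <;> norm_num
    · have : diffSet (fun _ => 0) (hsF2 O) = O := by
        ext r; rw [diffSet, Finset.mem_filter]; simp only [Finset.mem_univ, true_and, hsF2]
        split_ifs with e <;> simp [e]
      rw [this]; exact hO'.1
    · simp only [hm, sum_mag5, sum_hsF2 hO']
      simp [hsF2, hnO]

theorem hsPts_split : {y ∈ hsPts v | ip Spor.leechU' y = 8} = hsPts3 v ∧
    {y ∈ hsPts v | y ≠ Spor.leechU' ∧ ip Spor.leechU' y ≠ 8} = hsPts2 v := by
  have hb := hs_base_pt hn hu hu'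
  constructor <;> ext y <;> constructor
  · rintro ⟨hy, h8⟩
    rcases hs_class hn hu hu' hy with rfl | h | h
    · rw [hb.2] at h8; norm_num at h8
    · exact h
    · rw [(hs_pt2 hn hu hu' h).2] at h8; norm_num at h8
  · exact fun h => hs_pt3 hn hu hu' h
  · rintro ⟨hy, hne, h8⟩
    rcases hs_class hn hu hu' hy with rfl | h | h
    · exact absurd rfl hne
    · exact absurd (hs_pt3 hn hu hu' h).2 h8
    · exact h
  · intro h
    obtain ⟨h1, h2⟩ := hs_pt2 hn hu hu' h
    refine ⟨h1, ?_, by omega⟩
    rintro rfl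
    rw [hb.2] at h2; norm_num at h2

theorem ncard_hsPts : (hsPts v).ncard = 100 := by
  have hb := hs_base_pt hn hu hu'
  have h3 := ncard_hsPts3 hn hu hu'
  have h2 := ncard_hsPts2 hn hu hu'
  have f3 : (hsPts3 v).Finite := Set.finite_of_ncard_ne_zero (by omega)
  have f2 : (hsPts2 v).Finite := Set.finite_of_ncard_ne_zero (by omega)
  have e : hsPts v = insert Spor.leechU' (hsPts3 v ∪ hsPts2 v) := by
    ext y
    refine ⟨fun h => ?_, ?_⟩
    · rcases hs_class hn hu hu' h with h' | h' | h'
      · exact Or.inl h'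
      · exact Or.inr (Or.inl h')
      · exact Or.inr (Or.inr h')
    · rintro (rfl | h | h)
      · exact hb.1
      · exact (hs_pt3 hn hu hu' h).1
      · exact (hs_pt2 hn hu hu' h).1
  have hdis : Disjoint (hsPts3 v) (hsPts2 v) := Set.disjoint_left.2 fun y h h' => by
    have := (hs_pt3 hn hu hu' h).2
    have := (hs_pt2 hn hu hu' h').2
    omega
  have hnot : Spor.leechU' ∉ hsPts3 v ∪ hsPts2 v := by
    rintro (h | h)
    · have := (hs_pt3 hn hu hu' h).2
      rw [hb.2] at this; norm_num at this
    · have := (hs_pt2 hn hu hu' h).2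
      rw [hb.2] at this; norm_num at this
  rw [e, Set.ncard_insert_of_notMem hnot (f3.union f2), Set.ncard_union_eq hdis f3 f2, h3, h2]

/-- The stabiliser of the triple is transitive on the two kinds. -/
theorem hs_rank3 {y y' : leechLattice} (hy : y ∈ hsPts v) (hy' : y' ∈ hsPts v)
    (hne : y ≠ Spor.leechU') (hne' : y' ≠ Spor.leechU')
    (hiff : ip Spor.leechU' y = 8 ↔ ip Spor.leechU' y' = 8) :
    ∃ g : Co0, g • Spor.leechU = Spor.leechU ∧ g • Spor.leechU' = Spor.leechU' ∧ g • v = v ∧
      g • y = y' := by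
  rcases hs_class hn hu hu' hy with h | h | h
  · exact absurd h hne
  · rcases hs_class hn hu hu' hy' with h' | h' | h'
    · exact absurd h' hne'
    · obtain ⟨i, hi, hr⟩ := h
      obtain ⟨j, hj, hr'⟩ := h'
      obtain ⟨hin, hi0⟩ := mem_restPts.1 hi
      obtain ⟨hjn, hj0⟩ := mem_restPts.1 hj
      obtain ⟨σ, hσ, hσf⟩ := M24Orbits.exists_map_tuple_list (by norm_num : 3 ≤ 5)
        (x := ![none, some 0, i]) (y := ![none, some 0, j])
        (by intro p q e; fin_cases p <;> fin_cases q <;> simp_all [eq_comm])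
        (by intro p q e; fin_cases p <;> fin_cases q <;> simp_all [eq_comm])
      obtain ⟨g, g1, g2, g3, g4⟩ := hs_mono hσ (hσf 0) (hσf 1) hn hu hu' hn hu hu'
      refine ⟨g, g1, g2, g3, rel_inj (u := v) fun r => ?_⟩
      obtain ⟨t, rfl⟩ := σ.surjective r
      rw [g4, hr, hr', hsF3, hsF3]
      simp only [← show σ i = j from hσf 2, σ.injective.eq_iff]
    · exact absurd (hiff.1 (hs_pt3 hn hu hu' h).2) (by rw [(hs_pt2 hn hu hu' h').2]; norm_num)
  · rcases hs_class hn hu hu' hy' with h' | h' | h'
    · exact absurd h' hne'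
    · exact absurd (hiff.2 (hs_pt3 hn hu hu' h').2) (by rw [(hs_pt2 hn hu hu' h).2]; norm_num)
    · obtain ⟨O, hO, hr⟩ := h
      obtain ⟨O', hO', hr'⟩ := h'
      obtain ⟨hO1, hO2, hO3⟩ := mem_hsOcts.1 hO
      obtain ⟨hO1', hO2', hO3'⟩ := mem_hsOcts.1 hO'
      obtain ⟨k, hk, k1, k2, k3⟩ :=
        M24Orbits.exists_map_octad_two (by simp : (none : GolayPt) ≠ some 0) hO1 hO2 hO3
      obtain ⟨k', hk', k1', k2', k3'⟩ :=
        M24Orbits.exists_map_octad_two (by simp : (none : GolayPt) ≠ some 0) hO1' hO2' hO3'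
      have hσ : k' * k⁻¹ ∈ M24 := M24.mul_mem hk' (inv_mem hk)
      have s0 : (k' * k⁻¹) none = none := by
        show k' (k⁻¹ • (none : GolayPt)) = none
        rw [show k⁻¹ • (none : GolayPt) = M24Orbits.P₀ from inv_smul_eq_iff.2 k2.symm]
        exact k2'
      have s1 : (k' * k⁻¹) (some 0) = some 0 := by
        show k' (k⁻¹ • (some 0 : GolayPt)) = some 0
        rw [show k⁻¹ • (some 0 : GolayPt) = M24Orbits.Q₀ from inv_smul_eq_iff.2 k3.symm]
        exact k3'
      have sO : (k' * k⁻¹) • O = O' := by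
        rw [mul_smul, ← k1, inv_smul_smul, k1']
      obtain ⟨g, g1, g2, g3, g4⟩ := hs_mono hσ s0 s1 hn hu hu' hn hu hu'
      refine ⟨g, g1, g2, g3, rel_inj (u := v) fun r => ?_⟩
      obtain ⟨t, rfl⟩ := (k' * k⁻¹).surjective r
      rw [g4, hr, hr']
      simp only [hsF2, ← sO, ← Equiv.Perm.smul_def, Finset.smul_mem_smul_finset_iff]

end

end CfsgLib.LeechTriples
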