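import Mathlib
import Cfsg.Agent.LeechTriples.HSPoints

/-! Transfer between a general Higman–Sims configuration and the standard one. -/

set_option autoImplicit false

namespace CfsgLib.LeechTriples

open Cfsg CfsgLib.Leech
open scoped Pointwise

theorem dotInt_eq_ip (v y : leechLattice) :
    dotInt (v : GolayPt → ℤ) (y : GolayPt → ℤ) = ip v y := rfl

/-- The points for two vectors of squared length 48. -/
def hsSet (v w : leechLattice) : Set leechLattice :=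
  {x : leechLattice | sqNorm (x : GolayPt → ℤ) = 32 ∧
    dotInt (v : GolayPt → ℤ) (x : GolayPt → ℤ) = 24 ∧
      dotInt (w : GolayPt → ℤ) (x : GolayPt → ℤ) = -24}

theorem mem_hsSet {v w y : leechLattice} :
    y ∈ hsSet v w ↔ nrm y = 32 ∧ ip (v + w) y = 0 ∧ ip v y = 24 := by
  rw [hsSet, Set.mem_setOf_eq, dotInt_eq_ip, dotInt_eq_ip, ip_comm (v + w) y, ip_add_right,
    ip_comm y v, ip_comm y w]
  constructor <;> rintro ⟨h1, h2, h3⟩ <;> exact ⟨h1, by omega, by omega⟩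

theorem exists_mem_hsSet {v w : leechLattice} (hv : nrm v = 48) (hw : nrm w = 48)
    (h : ip v w = -32) : ∃ x, x ∈ hsSet v w := by
  obtain ⟨h1, h2, -⟩ := hs_sum hv hw h
  obtain ⟨x, x1, x2, x3⟩ := exists_hs_point (v + w) v h1 hv h2
  exact ⟨x, mem_hsSet.2 ⟨x1, x2, by rw [ip_comm]; exact x3⟩⟩

theorem hs_norm {v w x : leechLattice} (hv : nrm v = 48) (hw : nrm w = 48) (h : ip v w = -32)
    (hx : x ∈ hsSet v w) : ∃ g : Co0, g • (v + w) = Spor.leechU ∧ g • x = Spor.leechU' ∧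
      nrm (g • v) = 48 ∧ ip Spor.leechU (g • v) = 16 ∧ ip Spor.leechU' (g • v) = 24 ∧
        ∀ y, y ∈ hsSet v w ↔ g • y ∈ hsPts (g • v) := by
  obtain ⟨h1, h2, -⟩ := hs_sum hv hw h
  obtain ⟨x1, x2, x3⟩ := mem_hsSet.1 hx
  obtain ⟨g, g1, g2⟩ := exists_pair_base _ x h1 x1 x2
  refine ⟨g, g1, g2, by rw [nrm_smul, hv], by rw [← g1, ip_smul, h2],
    by rw [← g2, ip_smul, ip_comm, x3], fun y => ?_⟩
  rw [mem_hsSet, hsPts, Set.mem_setOf_eq, nrm_smul, ← g1, ip_smul, ip_smul]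

theorem eq_of_sum {v w : leechLattice} {g : Co0} {c v' : leechLattice} (h1 : g • (v + w) = c)
    (h2 : g • v = v') : g • w = c - v' := by
  rw [← h1, ← h2, co0_map_add]; abel

theorem ncard_smul_set {S T : Set leechLattice} (g : Co0) (h : ∀ y, y ∈ S ↔ g • y ∈ T) :
    S.ncard = T.ncard := by
  refine Set.ncard_congr (fun y _ => g • y) (fun y hy => (h y).1 hy)
    (fun a b _ _ e => smul_left_cancel g e) fun b hb =>
      ⟨g⁻¹ • b, (h _).2 (by rw [smul_inv_smul]; exact hb), smul_inv_smul g b⟩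

theorem ncard_hsSet {v w : leechLattice} (hv : nrm v = 48) (hw : nrm w = 48)
    (h : ip v w = -32) : (hsSet v w).ncard = 100 := by
  obtain ⟨x, hx⟩ := exists_mem_hsSet hv hw h
  obtain ⟨g, -, -, g3, g4, g5, g6⟩ := hs_norm hv hw h hx
  rw [ncard_smul_set g g6, ncard_hsPts g3 g4 g5]

theorem hsSet_transitive {v w x x' : leechLattice} (hv : nrm v = 48) (hw : nrm w = 48)
    (h : ip v w = -32) (hx : x ∈ hsSet v w) (hx' : x' ∈ hsSet v w) :
    ∃ g : Co0, g • v = v ∧ g • w = w ∧ g • x = x' := by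
  obtain ⟨h1, h2, -⟩ := hs_sum hv hw h
  obtain ⟨a1, a2, a3⟩ := mem_hsSet.1 hx
  obtain ⟨b1, b2, b3⟩ := mem_hsSet.1 hx'
  obtain ⟨g, g1, g2, g3⟩ := exists_hsTriple (v + w) x v (v + w) x' v h1 a1 hv a2 h2
    (by rw [ip_comm]; exact a3) h1 b1 hv b2 h2 (by rw [ip_comm]; exact b3)
  exact ⟨g, g3, by rw [eq_of_sum g1 g3]; abel, g2⟩

theorem hs_swap {v w : leechLattice} (hv : nrm v = 48) (hw : nrm w = 48) (h : ip v w = -32) :
    ∃ g : Co0, g • v = w ∧ g • w = v := by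
  obtain ⟨h1, h2, h3⟩ := hs_sum hv hw h
  obtain ⟨g, g1, g2⟩ := exists_hsPair (v + w) v (v + w) w h1 hv h2 h1 hw h3
  exact ⟨g, g2, by rw [eq_of_sum g1 g2]; abel⟩

theorem hsSet_rank3 {v w x : leechLattice} (hv : nrm v = 48) (hw : nrm w = 48)
    (h : ip v w = -32) (hx : x ∈ hsSet v w) :
    {y | y ∈ hsSet v w ∧ ip x y = 8}.ncard = 22 ∧
    {y | y ∈ hsSet v w ∧ y ≠ x ∧ ip x y ≠ 8}.ncard = 77 ∧
    ∀ y ∈ hsSet v w, ∀ y' ∈ hsSet v w, y ≠ x → y' ≠ x → (ip x y = 8 ↔ ip x y' = 8) →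
      ∃ g : Co0, g • v = v ∧ g • w = w ∧ g • x = x ∧ g • y = y' := by
  obtain ⟨g, g1, g2, g3, g4, g5, g6⟩ := hs_norm hv hw h hx
  have hip : ∀ y, ip Spor.leechU' (g • y) = ip x y := fun y => by rw [← g2, ip_smul]
  have hne : ∀ y, g • y = Spor.leechU' ↔ y = x := fun y => by
    rw [← g2, smul_left_cancel_iff]
  obtain ⟨e1, e2⟩ := hsPts_split g3 g4 g5
  refine ⟨?_, ?_, fun y hy y' hy' n1 n2 hiff => ?_⟩
  · rw [ncard_smul_set g (T := {y | y ∈ hsPts (g • v) ∧ ip Spor.leechU' y = 8}) fun y => by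
      simp only [Set.mem_setOf_eq, g6, hip], e1, ncard_hsPts3 g3 g4 g5]
  · rw [ncard_smul_set g
      (T := {y | y ∈ hsPts (g • v) ∧ y ≠ Spor.leechU' ∧ ip Spor.leechU' y ≠ 8}) fun y => by
      simp only [Set.mem_setOf_eq, g6, hip, ne_eq, hne], e2, ncard_hsPts2 g3 g4 g5]
  · obtain ⟨k, k1, k2, k3, k4⟩ := hs_rank3 g3 g4 g5 ((g6 y).1 hy) ((g6 y').1 hy')
      (fun e => n1 ((hne y).1 e)) (fun e => n2 ((hne y').1 e)) (by rw [hip, hip]; exact hiff)
    have f1 : (g⁻¹ * k * g) • v = v := by rw [mul_smul, mul_smul, k3, inv_smul_smul]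
    have f2 : (g⁻¹ * k * g) • (v + w) = v + w := by
      rw [mul_smul, mul_smul, g1, k1, ← g1, inv_smul_smul]
    exact ⟨g⁻¹ * k * g, f1, by rw [eq_of_sum f2 f1]; abel,
      by rw [mul_smul, mul_smul, g2, k2, ← g2, inv_smul_smul],
      by rw [mul_smul, mul_smul, k4, inv_smul_smul]⟩

end CfsgLib.LeechTriples
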