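import Mathlib
import Cfsg.Agent.LeechTriples.HSTransfer
import Cfsg.Agent.Leech.PairCounts

/-! The counts 1024, 2025 and 11178 by double counting. -/

set_option autoImplicit false

namespace CfsgLib.LeechTriples

open Cfsg CfsgLib.Leech
open scoped Pointwise

/-- Vectors with products `-8` with `U` and `16` with `U'`. -/
def thirdSet : Set leechLattice :=
  {y | nrm y = 32 ∧ ip Spor.leechU y = -8 ∧ ip Spor.leechU' y = 16}

theorem third_shape {y : leechLattice} (hy : y ∈ thirdSet) :
    (y : GolayPt → ℤ) none = 1 ∧ (y : GolayPt → ℤ) (some 0) = -3 ∧ IsOdd y ∧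
      ∀ i ∈ restPts, (y : GolayPt → ℤ) i = 1 ∨ (y : GolayPt → ℤ) i = -1 := by
  obtain ⟨hn, h1, h2⟩ := hy
  obtain ⟨e0, e1⟩ := base_values h1 h2
  have a0 : (y : GolayPt → ℤ) none = 1 := by omega
  have a1 : (y : GolayPt → ℤ) (some 0) = -3 := by omega
  have hodd : IsOdd y := by
    rcases parity_all y with h | h
    · have := h none; omega
    · exact h
  refine ⟨a0, a1, hodd, fun i hi => sq_eq_one_iff.1 ?_⟩
  have hsp := nrm_split y
  rw [hn, a0, a1] at hsp
  exact all_eq_one_of_sum_le (fun j _ => one_le_sq_of_odd (hodd j))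
    (by rw [card_restPts]; norm_num at hsp ⊢; omega) i hi

theorem exists_third : ∃ y, y ∈ thirdSet := by
  obtain ⟨y, hy⟩ := Finset.card_pos.1
    (show 0 < (nbrs Spor.leechU (-8)).card by rw [census.2.1]; norm_num)
  obtain ⟨h1, h2⟩ := mem_nbrs.1 hy
  obtain ⟨z, hz, hz1, hz2⟩ := exists_partner8 (-y) (by rw [nrm_neg, h1])
    (by rw [ip_neg_right, h2]; norm_num)
  obtain ⟨g, g1, g2⟩ := exists_pair_base Spor.leechU (-z) nrm_leechU (by rw [nrm_neg, hz])
    (by rw [ip_neg_right, hz1]; norm_num)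
  refine ⟨g • y, by rw [nrm_smul, h1], by rw [← g1, ip_smul, h2], ?_⟩
  rw [← g2, ip_smul, ip_comm, ip_neg_right, ip_comm]
  rw [ip_neg_right] at hz2
  omega

/-- The code words avoiding `∞` and `0`. -/
noncomputable def avoidSets : Finset (Finset GolayPt) :=
  Golay.codeSets.filter fun s => (none : GolayPt) ∉ s ∧ (some 0 : GolayPt) ∉ s

theorem card_avoidSets : avoidSets.card = 1024 := by
  rw [avoidSets, Golay.card_filter_codeSets
    (q' := fun n => !n.testBit (Golay.idx none).val && !n.testBit (Golay.idx (some 0)).val)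
    (fun n _ => by simp)]
  decide +kernel

theorem wordOf_mem {s : Finset GolayPt} (h : s ∈ Golay.codeSets) :
    Golay.wordOf s ∈ golayCode := by
  obtain ⟨w, hw, rfl⟩ := Golay.mem_codeSets.1 h
  rw [Golay.wordOf_support₂]
  exact hw

theorem ncard_thirdSet : thirdSet.ncard = 1024 := by
  classical
  obtain ⟨y₀, h₀⟩ := exists_third
  obtain ⟨a0, a1, aodd, apm⟩ := third_shape h₀
  rw [← card_avoidSets, ← Set.ncard_coe_finset avoidSets]
  let φ : ∀ s ∈ (avoidSets : Set (Finset GolayPt)), leechLattice := fun s hs =>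
    signs (Golay.wordOf s) (wordOf_mem (Finset.mem_filter.1 hs).1) • y₀
  have hφ : ∀ s hs i, ((φ s hs : leechLattice) : GolayPt → ℤ) i =
      if i ∈ s then -(y₀ : GolayPt → ℤ) i else (y₀ : GolayPt → ℤ) i := fun s hs i => by
    simp only [φ, signs_apply, Golay.wordOf]
    split_ifs <;> first | rfl | simp_all
  refine (Set.ncard_congr φ (fun s hs => ?_) ?_ ?_).symm
  · obtain ⟨-, hn, h0⟩ := Finset.mem_filter.1 (Finset.mem_coe.1 hs)
    have e0 := hφ s hs none
    have e1 := hφ s hs (some 0)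
    rw [if_neg hn, a0] at e0
    rw [if_neg h0, a1] at e1
    refine ⟨by simp only [φ, nrm_smul]; exact h₀.1, ?_, ?_⟩
    · rw [ip_leechU, e0, e1]; norm_num
    · rw [ip_leechU', e0, e1]; norm_num
  · intro s t hs ht h
    ext i
    have h1 := hφ s hs i
    rw [h, hφ t ht i] at h1
    have := aodd i
    by_cases p : i ∈ t <;> by_cases q : i ∈ s <;> simp only [p, q, if_true, if_false] at h1 ⊢ <;> omega
  · intro y hy
    obtain ⟨b0, b1, bodd, bpm⟩ := third_shape hy
    let b : GolayPt → ℤ := fun i => ((y₀ : GolayPt → ℤ) i - (y : GolayPt → ℤ) i) / 2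
    have hb : ∀ i, (y₀ : GolayPt → ℤ) i - (y : GolayPt → ℤ) i = 2 * b i := fun i => by
      have := aodd i; have := bodd i; simp only [b]; omega
    have hpm : ∀ i, (y : GolayPt → ℤ) i = (y₀ : GolayPt → ℤ) i ∨
        (y : GolayPt → ℤ) i = -(y₀ : GolayPt → ℤ) i := fun i => by
      rcases eq_or_ne i none with rfl | hi
      · left; rw [b0, a0]
      rcases eq_or_ne i (some 0) with rfl | hi'
      · left; rw [b1, a1]
      · have := apm i (mem_restPts.2 ⟨hi, hi'⟩)
        have := bpm i (mem_restPts.2 ⟨hi, hi'⟩)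
        omega
    have hmem : ∀ i, i ∈ support₂ (red b) ↔ (y : GolayPt → ℤ) i ≠ (y₀ : GolayPt → ℤ) i := fun i => by
      rw [mem_support₂_red]
      have := hb i
      have := aodd i
      rcases hpm i with e | e <;> omega
    have hs : support₂ (red b) ∈ (avoidSets : Set (Finset GolayPt)) := by
      rw [Finset.mem_coe, avoidSets, Finset.mem_filter, Golay.mem_codeSets]
      exact ⟨mem_supports (half_sub_mem hb) rfl,
        fun h => (hmem none).1 h (b0.trans a0.symm),
        fun h => (hmem (some 0)).1 h (b1.trans a1.symm)⟩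
    refine ⟨support₂ (red b), hs, Subtype.ext (funext fun i => ?_)⟩
    rw [hφ _ hs]
    by_cases h : (y : GolayPt → ℤ) i = (y₀ : GolayPt → ℤ) i
    · rw [if_neg fun hi => (hmem i).1 hi h, h]
    · rw [if_pos ((hmem i).2 h)]
      rcases hpm i with e | e
      · exact absurd e h
      · exact e.symm

open Classical in
/-- Orthogonal to `a`, product 16 with `b`. -/
noncomputable def orthSixteen (a b : leechLattice) : Finset leechLattice :=
  (nbrs a 0).filter fun c => ip b c = 16

theorem mem_orthSixteen {a b c : leechLattice} :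
    c ∈ orthSixteen a b ↔ nrm c = 32 ∧ ip a c = 0 ∧ ip b c = 16 := by
  classical
  simp [orthSixteen, mem_nbrs, and_assoc]

theorem card_orthSixteen_smul (g : Co0) (a b : leechLattice) :
    (orthSixteen (g • a) (g • b)).card = (orthSixteen a b).card := by
  refine (Finset.card_equiv (MulAction.toPerm g) fun w => ?_).symm
  rw [mem_orthSixteen, mem_orthSixteen, MulAction.toPerm_apply, nrm_smul, ip_smul, ip_smul]

theorem nrm48_of_pair {y : leechLattice} (hy : nrm y = 32) (h : ip Spor.leechU y = -8) :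
    nrm (Spor.leechU + y) = 48 ∧ ip Spor.leechU (Spor.leechU + y) = 24 := by
  refine ⟨by rw [nrm_add, nrm_leechU, hy, h]; norm_num, ?_⟩
  rw [ip_add_right, ip_self, nrm_leechU, h]; norm_num

/-- Vectors orthogonal to a summand with product 16 with the sum: 2025. -/
theorem card_orthSixteen {v x : leechLattice} (hv : nrm v = 48) (hx : nrm x = 32)
    (hd : ip x v = 24) : (orthSixteen x v).card = 2025 := by
  classical
  have key : ∀ y ∈ nbrs Spor.leechU (-8),
      ((nbrs Spor.leechU 0).filter fun c => ip c y = 16).card = (orthSixteen x v).card := by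
    intro y hy
    obtain ⟨h1, h2⟩ := mem_nbrs.1 hy
    obtain ⟨e1, e2⟩ := nrm48_of_pair h1 h2
    obtain ⟨g, g1, g2⟩ := exists_decomp_smul v (Spor.leechU + y) x Spor.leechU hv hx
      (by rw [ip_comm]; exact hd) e1 nrm_leechU (by rw [ip_comm]; exact e2)
    rw [← card_orthSixteen_smul g x v, g1, g2]
    refine congrArg Finset.card (Finset.ext fun c => ?_)
    rw [Finset.mem_filter, mem_nbrs, mem_orthSixteen, ip_comm (Spor.leechU + y) c, ip_add_right,
      ip_comm Spor.leechU c]
    constructor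
    · rintro ⟨⟨p, q⟩, r⟩; exact ⟨p, q, by omega⟩
    · rintro ⟨p, q, r⟩; exact ⟨⟨p, q⟩, by omega⟩
  have hcol : ∀ c ∈ nbrs Spor.leechU 0,
      ((nbrs Spor.leechU (-8)).filter fun y => ip c y = 16).card = 1024 := by
    intro c hc
    obtain ⟨h1, h2⟩ := mem_nbrs.1 hc
    obtain ⟨g, g1, g2⟩ := exists_pair_base Spor.leechU c nrm_leechU h1 h2
    rw [← ncard_thirdSet, ← Set.ncard_coe_finset]
    refine ncard_smul_set g fun y => ?_
    rw [Finset.mem_coe, Finset.mem_filter, mem_nbrs, thirdSet, Set.mem_setOf_eq, nrm_smul]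
    conv_rhs => rw [← g2, ip_smul, ← g1, ip_smul]
    rw [and_assoc]
  have h1 : (nbrs Spor.leechU (-8)).card * (orthSixteen x v).card =
      (nbrs Spor.leechU 0).card * 1024 := by
    rw [← smul_eq_mul, ← smul_eq_mul, ← Finset.sum_const, ← Finset.sum_const,
      ← Finset.sum_congr rfl key, ← Finset.sum_congr rfl hcol]
    simp only [Finset.card_filter]
    rw [Finset.sum_comm]
  rw [census.2.1, census.2.2] at h1
  omega

/-- Vectors with product 16 with one of squared length 48: 11178. -/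
theorem card_nbrs48 {v : leechLattice} (hv : nrm v = 48) : (nbrs v 16).card = 11178 := by
  classical
  have hrow : ∀ x ∈ nbrs v 24,
      ((nbrs v 16).filter fun c => ip c x = 0).card = 2025 := by
    intro x hx
    obtain ⟨h1, h2⟩ := mem_nbrs.1 hx
    rw [← card_orthSixteen hv h1 (by rw [ip_comm]; exact h2)]
    refine congrArg Finset.card (Finset.ext fun c => ?_)
    rw [Finset.mem_filter, mem_nbrs, mem_orthSixteen, ip_comm x c]
    tauto
  have hcol : ∀ c ∈ nbrs v 16, ((nbrs v 24).filter fun x => ip c x = 0).card = 100 := by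
    intro c hc
    obtain ⟨h1, h2⟩ := mem_nbrs.1 hc
    have hw : nrm (c - v) = 48 := by rw [nrm_sub, h1, hv, ip_comm, h2]; norm_num
    have hvw : ip v (c - v) = -32 := by rw [ip_sub_right, ip_self, hv, h2]; norm_num
    rw [← ncard_hsSet hv hw hvw, ← Set.ncard_coe_finset]
    congr 1
    ext x
    rw [Finset.mem_coe, Finset.mem_filter, mem_nbrs, mem_hsSet,
      show v + (c - v) = c by abel]
    tauto
  have h1 : (nbrs v 16).card * 100 = (nbrs v 24).card * 2025 := by
    rw [← smul_eq_mul, ← smul_eq_mul, ← Finset.sum_const, ← Finset.sum_const,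
      ← Finset.sum_congr rfl hrow, ← Finset.sum_congr rfl hcol]
    simp only [Finset.card_filter]
    rw [Finset.sum_comm]
  rw [card_summands hv] at h1
  omega

theorem co3_pairs {u : leechLattice} (hu : nrm u = 48) :
    {x : leechLattice | sqNorm (x : GolayPt → ℤ) = 32 ∧
      dotInt (u : GolayPt → ℤ) (x : GolayPt → ℤ) = -16}.ncard = 11178 ∧
    ∀ x ∈ {x : leechLattice | sqNorm (x : GolayPt → ℤ) = 32 ∧
      dotInt (u : GolayPt → ℤ) (x : GolayPt → ℤ) = -16},
    ∀ x' ∈ {x : leechLattice | sqNorm (x : GolayPt → ℤ) = 32 ∧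
      dotInt (u : GolayPt → ℤ) (x : GolayPt → ℤ) = -16},
      ∃ g : Co0, g • u = u ∧ g • x = x' := by
  refine ⟨?_, fun x hx x' hx' => ?_⟩
  · rw [← card_nbrs48 hu, ← Set.ncard_coe_finset]
    refine Set.ncard_congr (fun x _ => -x) (fun x hx => ?_) (fun a b _ _ e => neg_inj.1 e)
      fun c hc => ?_
    · rw [Finset.mem_coe, mem_nbrs, nrm_neg, ip_neg_right]
      exact ⟨hx.1, by rw [show ip u x = -16 from hx.2]; norm_num⟩
    · obtain ⟨h1, h2⟩ := mem_nbrs.1 (Finset.mem_coe.1 hc)
      refine ⟨-c, ⟨?_, ?_⟩, neg_neg c⟩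
      · show nrm (-c) = 32; rw [nrm_neg, h1]
      · show ip u (-c) = -16; rw [ip_neg_right, h2]
  · obtain ⟨h1, h2⟩ := hx
    obtain ⟨h1', h2'⟩ := hx'
    obtain ⟨g, g1, g2⟩ := exists_hsPair (-x) u (-x') u (by rw [nrm_neg]; exact h1) hu
      (by rw [ip_comm, ip_neg_right, show ip u x = -16 from h2]; norm_num)
      (by rw [nrm_neg]; exact h1') hu
      (by rw [ip_comm, ip_neg_right, show ip u x' = -16 from h2']; norm_num)
    rw [co0_map_neg, neg_inj] at g1
    exact ⟨g, g2, g1⟩

end CfsgLib.LeechTriples
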